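import Cfsg.Agent.Lib.Components.CoreBalance
import Cfsg.Agent.Lib.Components.Signalizer.Balance
import Cfsg.Prelude.Def_Balance

/-!
Odd subgroups normalised by the centraliser of a 2-group, acting on components; images in
`C / O(C)` of subgroups of the ambient group.
-/

set_option autoImplicit false
set_option linter.style.haveILetI false
set_option linter.unusedSectionVars false

namespace CfsgLib.Components.CoreSeparated

open Subgroup CfsgLib.Solvable
open scoped commutatorElement

section Abstract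

variable {H : Type*} [Group H] [Finite H] [Fact (Nat.Prime 2)]

theorem centralizes_of_le_centralizer (hO : Cfsg.pPrimeCore 2 H = ⊥) {R Q L : Subgroup H}
    (hQ : (Nat.card Q).Coprime 2) (hn : centralizer (R : Set H) ≤ normalizer (Q : Set H))
    (hL : Cfsg.IsComponent L) (hLR : L ≤ centralizer (R : Set H)) :
    Q ≤ centralizer (L : Set H) := by
  have h := (IsComponent.le_or_commutator_eq_bot_of_le_normalizer hL (hLR.trans hn)).resolve_left
    (LocalCore.not_le_of_coprime hO hL hQ)
  rwa [commutator_comm, commutator_eq_bot_iff_le_centralizer] at h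

/-- An odd core element centralising every component is trivial when `O(H) = 1`. -/
theorem eq_bot_of_centralizes (hO : Cfsg.pPrimeCore 2 H = ⊥) {R Q Y : Subgroup H}
    (hR : IsPGroup 2 R) (hQ : (Nat.card Q).Coprime 2) (hQR : Q ≤ centralizer (R : Set H))
    (hn : centralizer (R : Set H) ≤ normalizer (Q : Set H)) (hY : Y ≤ Q)
    (h : ∀ L : Subgroup H, Cfsg.IsComponent L → Y ≤ centralizer (L : Set H)) : Y = ⊥ := by
  haveI : (Cfsg.pCore 2 H).Normal := Cfsg.pCore_normal 2 H
  have hF : Y ≤ centralizer (Cfsg.generalizedFittingSubgroup H : Set H) := by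
    rw [le_centralizer_iff, Cfsg.generalizedFittingSubgroup]
    refine sup_le (layer_le_iff.mpr fun K hK => le_centralizer_iff.mp (h K hK)) ?_
    rw [Cores.fittingSubgroup_eq_pCore 2 hO, le_centralizer_iff]
    exact hY.trans (LocalCore.le_centralizer_pGroup hR hQ hQR hn _ (Cores.isPGroup_pCore 2))
  have h1 : Y ≤ Cfsg.pCore 2 H :=
    (hF.trans centralizer_generalizedFitting_le_fitting).trans
      (Cores.fittingSubgroup_eq_pCore 2 hO).le
  have h2 := inf_eq_bot_of_pGroup_coprime (Cores.isPGroup_pCore (G := H) 2) hQ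
  exact le_bot_iff.mp (h2 ▸ le_inf h1 hY)

theorem commutator_le_centralizer {Q R L : Subgroup H} (hQL : Q ≤ normalizer (L : Set H))
    (hR : R ≤ centralizer (L : Set H)) : ⁅Q, R⁆ ≤ centralizer (L : Set H) := by
  have hb : ⁅R, L⁆ = ⊥ := commutator_eq_bot_iff_le_centralizer.mpr hR
  rw [← commutator_eq_bot_iff_le_centralizer]
  refine commutator_commutator_eq_bot_of_rotate (by rw [hb, commutator_bot_left]) ?_
  rw [eq_bot_iff, ← hb]
  exact (commutator_mono (commutator_le_left_of_le_normalizer hQL) le_rfl).trans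
    (commutator_comm L R).le

end Abstract

variable {G : Type*} [Group G] [Finite G] [Fact (Nat.Prime 2)]

/-- The quotient map `C → C / O(C)`. -/
abbrev qmap (C : Subgroup G) : C →* C ⧸ Cfsg.pPrimeCore 2 C :=
  QuotientGroup.mk' (Cfsg.pPrimeCore 2 C)

/-- The image of `R ∩ C` in `C / O(C)`. -/
abbrev img (C R : Subgroup G) : Subgroup (C ⧸ Cfsg.pPrimeCore 2 C) :=
  (R.subgroupOf C).map (qmap C)

theorem mem_img {C R : Subgroup G} {g : G} (hg : g ∈ C) (hgR : g ∈ R) :
    qmap C ⟨g, hg⟩ ∈ img C R :=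
  ⟨⟨g, hg⟩, hgR, rfl⟩

theorem img_mono {C R S : Subgroup G} (h : R ≤ S) : img C R ≤ img C S :=
  map_mono (comap_mono h)

theorem img_isPGroup {C R : Subgroup G} (hR : IsPGroup 2 R) : IsPGroup 2 (img C R) :=
  (hR.comap_of_injective C.subtype C.subtype_injective).map _

theorem img_coprime {C Q : Subgroup G} (hQC : Q ≤ C) (hQ : (Nat.card Q).Coprime 2) :
    (Nat.card (img C Q)).Coprime 2 := by
  refine hQ.coprime_dvd_left ((card_map_dvd _ _).trans ?_)
  rw [Nat.card_congr (subgroupOfEquivOfLe hQC).toEquiv]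

theorem img_le_centralizer {C Q R : Subgroup G} (h : Q ≤ centralizer (R : Set G)) :
    img C Q ≤ centralizer (img C R : Set (C ⧸ Cfsg.pPrimeCore 2 C)) := by
  rintro _ ⟨x, hx, rfl⟩
  refine mem_centralizer_iff.mpr ?_
  rintro _ ⟨r, hr, rfl⟩
  rw [← map_mul, ← map_mul]
  exact congrArg _ (Subtype.ext (mem_centralizer_iff.mp (h hx) r hr))

/-- `C(R̄)` is the image of `C(R)`. -/
theorem centralizer_img {C R : Subgroup G} (hR : IsPGroup 2 R) (hRC : R ≤ C) :
    centralizer (img C R : Set (C ⧸ Cfsg.pPrimeCore 2 C)) = img C (centralizer (R : Set G)) := by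
  have h : IsPGroup 2 ↥(R.subgroupOf C) := hR.comap_of_injective C.subtype C.subtype_injective
  refine (centralizer_map_mk (Cores.coprime_card_pPrimeCore 2) h).trans ?_
  congr 1
  ext x
  constructor
  · intro hx
    exact mem_centralizer_iff.mpr fun r hr =>
      congrArg Subtype.val (mem_centralizer_iff.mp hx ⟨r, hRC hr⟩ hr)
  · intro hx
    exact mem_centralizer_iff.mpr fun r hr => Subtype.ext (mem_centralizer_iff.mp hx r hr)

theorem centralizer_img_le_normalizer {C R Q : Subgroup G} (hR : IsPGroup 2 R) (hRC : R ≤ C)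
    (h : centralizer (R : Set G) ⊓ C ≤ normalizer (Q : Set G)) :
    centralizer (img C R : Set (C ⧸ Cfsg.pPrimeCore 2 C)) ≤
      normalizer (img C Q : Set (C ⧸ Cfsg.pPrimeCore 2 C)) := by
  rw [centralizer_img hR hRC]
  rintro _ ⟨x, hx, rfl⟩
  refine le_normalizer_map _ (mem_map_of_mem _ ?_)
  exact mem_normalizer_iff.mpr fun y => mem_normalizer_iff.mp (h ⟨hx, x.2⟩) y

theorem img_commutator_le {C Q R : Subgroup G} (hQC : Q ≤ C) (hRC : R ≤ C) :
    img C ⁅Q, R⁆ ≤ ⁅img C Q, img C R⁆ := by
  have e : (⁅Q.subgroupOf C, R.subgroupOf C⁆ : Subgroup C) = ⁅Q, R⁆.subgroupOf C := by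
    apply map_injective C.subtype_injective
    rw [map_commutator, subgroupOf_map_subtype, subgroupOf_map_subtype, subgroupOf_map_subtype,
      inf_eq_left.mpr hQC, inf_eq_left.mpr hRC,
      inf_eq_left.mpr ((commutator_mono hQC hRC).trans (commutator_le.mpr fun x hx y hy => by
        rw [commutatorElement_def]; exact mul_mem (mul_mem (mul_mem hx hy) (inv_mem hx)) (inv_mem hy)))]
  rw [img, ← e, map_commutator]

theorem mem_core_of_img_eq_bot {C D : Subgroup G} (hDC : D ≤ C) (h : img C D = ⊥) :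
    D ≤ (Cfsg.pPrimeCore 2 C).map C.subtype := fun g hg =>
  ⟨⟨g, hDC hg⟩, (QuotientGroup.eq_one_iff _).mp ((eq_bot_iff_forall _).mp h _ (mem_img _ hg)),
    rfl⟩

/-- The standard data attached to an odd subgroup `Q` centralising `R` inside `C`. -/
theorem img_data {C R Q : Subgroup G} (hR : IsPGroup 2 R) (hRC : R ≤ C) (hQC : Q ≤ C)
    (hQ : (Nat.card Q).Coprime 2) (hQR : Q ≤ centralizer (R : Set G))
    (hn : centralizer (R : Set G) ⊓ C ≤ normalizer (Q : Set G))
    {L : Subgroup (C ⧸ Cfsg.pPrimeCore 2 C)} (hL : Cfsg.IsComponent L) :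
    img C Q ≤ normalizer (L : Set (C ⧸ Cfsg.pPrimeCore 2 C)) :=
  LocalCore.le_normalizer_component pPrimeCore_quotient_eq_bot (img_isPGroup hR)
    (img_coprime hQC hQ) (img_le_centralizer hQR) (centralizer_img_le_normalizer hR hRC hn) hL

end CfsgLib.Components.CoreSeparated
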