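import Cfsg.Agent.Lib.Components.CoreSeparated.Main

/-!
Balance for the functor of a core-separated pair of four-groups.
-/

set_option autoImplicit false
set_option linter.style.haveILetI false
set_option linter.unusedSectionVars false

namespace CfsgLib.Components.CoreSeparated

open Subgroup CfsgLib.Solvable
open CfsgLib.Components.ExtendedLayer (part part_le_centralizer normalizer_le_normalizer_part)
open scoped commutatorElement

variable {G : Type*} [Group G] [Finite G] [Fact (Nat.Prime 2)] {A₁ A₂ : Subgroup G}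

/-- `[O(C(a)), A] (O(C(a)) ∩ O(C(A)))`. -/
abbrev factor (A : Subgroup G) (a : G) : Subgroup G :=
  ⁅Cfsg.centralizerPPrimeCore 2 a, A⁆ ⊔ (Cfsg.centralizerPPrimeCore 2 a ⊓ part 2 A)

theorem Pair.swap (P : Pair A₁ A₂) (h : Nat.card A₂ = 4) : Pair A₂ A₁ :=
  ⟨P.h2, P.h1, h, fun x hx y hy => (P.comm y hy x hx).symm,
    fun c hc hc1 J hJ => (P.sep c (sup_comm A₂ A₁ ▸ hc) hc1 J hJ).symm⟩

theorem le_normalizer_core {A : Subgroup G} {a : G} (h : A ≤ centralizer ({a} : Set G)) :
    A ≤ normalizer (Cfsg.centralizerPPrimeCore 2 a : Set G) :=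
  h.trans (Signalizer.centralizer_le_normalizer_core a)

theorem factor_le_core {A : Subgroup G} {a : G} (h : A ≤ centralizer ({a} : Set G)) :
    factor A a ≤ Cfsg.centralizerPPrimeCore 2 a :=
  sup_le (commutator_le_left_of_le_normalizer (le_normalizer_core h)) inf_le_left

theorem factor_fixed_le (P : Pair A₁ A₂) {a : G} (ha : a ∈ A₁ ⊔ A₂) :
    factor A₁ a ⊓ centralizer (A₁ : Set G) ≤ part 2 A₁ := by
  intro x hx
  obtain ⟨m, hm, n, hn, rfl⟩ := GlaubermanSylow.mem_of_mem_sup_of_normalizes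
    (inf_le_left.trans (normalizer_commutator_ge_left _ _)) hx.1
  have hnX : n ∈ centralizer (A₁ : Set G) := part_le_centralizer A₁ hn.2
  have hmX : m ∈ centralizer (A₁ : Set G) := by
    have := mul_mem hx.2 (Subgroup.inv_mem _ hnX)
    rwa [mul_inv_cancel_right] at this
  exact mul_mem (fixed_commutator_le P ha ⟨hm, hmX⟩) hn.2

/-- A conjugate by an element of `A₁ ⊔ A₂` stays in the factor. -/
theorem conj_mem_factor (P : Pair A₁ A₂) {a : G} (ha : a ∈ A₁ ⊔ A₂) {b : G}
    (hb : b ∈ A₁ ⊔ A₂) {x : G} (hx : x ∈ factor A₁ a) : b * x * b⁻¹ ∈ factor A₁ a := by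
  have hO : b ∈ normalizer (Cfsg.centralizerPPrimeCore 2 a : Set G) :=
    le_normalizer_core (P.centralizer_le ha) hb
  have hA : b ∈ centralizer (A₁ : Set G) :=
    mem_centralizer_iff.mpr fun y hy => P.comm_sup (mem_sup_left hy) hb
  have hp : b ∈ normalizer ((part 2 A₁ : Subgroup G) : Set G) :=
    normalizer_le_normalizer_part A₁ (centralizer_le_normalizer _ hA)
  have e : (factor A₁ a).map (MulAut.conj b).toMonoidHom = factor A₁ a := by
    rw [factor, Subgroup.map_sup, map_commutator,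
      mem_normalizer_iff_map_conj_eq.mp hO,
      mem_normalizer_iff_map_conj_eq.mp (centralizer_le_normalizer _ hA),
      map_inf_eq _ _ _ (MulAut.conj b).injective,
      mem_normalizer_iff_map_conj_eq.mp hO, mem_normalizer_iff_map_conj_eq.mp hp]
  exact e.le ⟨x, hx, rfl⟩

/-- The functor. -/
abbrev theta (A₁ A₂ : Subgroup G) (a : G) : Subgroup G := factor A₁ a ⊓ factor A₂ a

theorem sup_le_normalizer_theta_inf (P : Pair A₁ A₂) (h4 : Nat.card A₂ = 4) {a b : G}
    (ha : a ∈ A₁ ⊔ A₂) (hb : b ∈ A₁ ⊔ A₂) {A : Subgroup G} (hA : A ≤ A₁ ⊔ A₂) :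
    A ≤ normalizer ((theta A₁ A₂ a ⊓ centralizer ({b} : Set G) : Subgroup G) : Set G) := by
  intro t ht
  refine Coprime.mem_normalizer_of_conj_map_le fun x hx => ?_
  refine ⟨⟨conj_mem_factor P ha (hA ht) hx.1.1, ?_⟩, ?_⟩
  · exact conj_mem_factor (P.swap h4) (sup_comm A₁ A₂ ▸ ha) (sup_comm A₁ A₂ ▸ hA ht) hx.1.2
  · have := P.centralizer_le hb (hA ht)
    exact mul_mem (mul_mem this hx.2) (Subgroup.inv_mem _ this)

theorem commutator_sup_fixed {A D : Subgroup G} (hA : Cfsg.IsElementaryAbelian 2 A)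
    (hAD : A ≤ normalizer (D : Set G)) (hD : (Nat.card D).Coprime 2) :
    ⁅D, A⁆ ⊔ (D ⊓ centralizer (A : Set G)) = D := by
  refine Coprime.commutator_sup_centralizer hAD ?_
    (Or.inl (Group.isSolvable_of_comm fun x y => hA.1.1.1 x y))
  obtain ⟨k, hk⟩ := IsPGroup.iff_card.mp (Signalizer.isPGroup_of_elementary hA)
  rw [hk]
  exact (hD.pow_right k).symm

/-- The image of `θ(a) ∩ C(b)` centralises the components centralised by `A₁`. -/
theorem img_centralizes (P : Pair A₁ A₂) (h4 : Nat.card A₂ = 4) {a b : G} (ha : a ∈ A₁ ⊔ A₂)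
    (hb : b ∈ A₁ ⊔ A₂) {L : Subgroup (Bar (centralizer ({b} : Set G)))} (hL : Cfsg.IsComponent L)
    (hL1 : img (centralizer ({b} : Set G)) A₁ ≤ centralizer (L : Set (Bar (centralizer ({b} : Set G))))) :
    img (centralizer ({b} : Set G)) (theta A₁ A₂ a ⊓ centralizer ({b} : Set G)) ≤
      centralizer (L : Set (Bar (centralizer ({b} : Set G)))) := by
  have hAC : A₁ ⊔ A₂ ≤ (centralizer ({b} : Set G)) := P.centralizer_le hb
  have hAa : A₁ ⊔ A₂ ≤ centralizer ({a} : Set G) := P.centralizer_le ha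
  have hOodd : (Nat.card (Cfsg.centralizerPPrimeCore 2 a)).Coprime 2 :=
    (Nat.prime_two.coprime_iff_not_dvd.mpr (Signalizer.not_dvd_centralizerPPrimeCore a)).symm
  have hDO : (theta A₁ A₂ a ⊓ (centralizer ({b} : Set G))) ≤ (Cfsg.centralizerPPrimeCore 2 a) ⊓ (centralizer ({b} : Set G)) := inf_le_inf_right _
    (inf_le_left.trans (factor_le_core (le_sup_left.trans hAa)))
  have hDodd : (Nat.card ↥(theta A₁ A₂ a ⊓ (centralizer ({b} : Set G)))).Coprime 2 :=
    hOodd.coprime_dvd_left (card_dvd_of_le (hDO.trans inf_le_left))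
  have hCRa : centralizer ((zpowers a : Subgroup G) : Set G) = centralizer ({a} : Set G) := by
    rw [zpowers_eq_closure, centralizer_closure]
  have hRp : IsPGroup 2 (zpowers a) := by
    refine IsPGroup.to_le ?_ (zpowers_le.mpr ha)
    exact P.isPGroup_one.to_sup_of_normal_left' (Signalizer.isPGroup_of_elementary P.h2)
      (fun v hv => centralizer_le_normalizer _
        (mem_centralizer_iff.mpr fun u hu => P.comm u hu v hv))
  have hQN : img (centralizer ({b} : Set G)) ((Cfsg.centralizerPPrimeCore 2 a) ⊓ (centralizer ({b} : Set G))) ≤ normalizer (L : Set (Bar (centralizer ({b} : Set G)))) :=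
    img_data hRp (zpowers_le.mpr (hAC ha)) inf_le_right
      (hOodd.coprime_dvd_left (card_dvd_of_le inf_le_left))
      (hCRa ▸ inf_le_left.trans (Signalizer.centralizerPPrimeCore_le a))
      (fun g hg => inf_normalizer_le_normalizer_inf
        ⟨Signalizer.centralizer_le_normalizer_core a (hCRa ▸ hg.1), Subgroup.le_normalizer hg.2⟩) hL
  have hfix : img (centralizer ({b} : Set G)) (part 2 A₁ ⊓ (centralizer ({b} : Set G))) ≤ centralizer (L : Set (Bar (centralizer ({b} : Set G)))) := by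
    refine centralizes_of_le_centralizer pPrimeCore_quotient_eq_bot
      (img_coprime (Q := part 2 A₁ ⊓ (centralizer ({b} : Set G))) inf_le_right
        ((CoreBalance.coprime_card_part A₁).coprime_dvd_left (card_dvd_of_le inf_le_left)))
      (centralizer_img_le_normalizer P.isPGroup_one (le_sup_left.trans hAC) ?_) hL
      (le_centralizer_iff.mp hL1)
    exact fun g hg => inf_normalizer_le_normalizer_inf
      ⟨normalizer_le_normalizer_part A₁ (centralizer_le_normalizer _ hg.1),
        Subgroup.le_normalizer hg.2⟩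
  have h : (theta A₁ A₂ a ⊓ (centralizer ({b} : Set G))) ≤ ((centralizer (L : Set (Bar (centralizer ({b} : Set G))))).comap (qmap (centralizer ({b} : Set G)))).map (centralizer ({b} : Set G)).subtype := by
    conv_lhs => rw [← commutator_sup_fixed P.h1
      (sup_le_normalizer_theta_inf P h4 ha hb le_sup_left) hDodd]
    refine sup_le ?_ ?_
    · intro z hz
      have hzD : z ∈ (theta A₁ A₂ a ⊓ (centralizer ({b} : Set G))) := commutator_le_left_of_le_normalizer
        (sup_le_normalizer_theta_inf P h4 ha hb le_sup_left) hz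
      refine ⟨⟨z, hzD.2⟩, ?_, rfl⟩
      have h1 := img_commutator_le (C := (centralizer ({b} : Set G))) inf_le_right (le_sup_left.trans hAC)
        (mem_img hzD.2 (commutator_mono hDO le_rfl hz))
      exact commutator_le_centralizer hQN hL1 h1
    · intro z hz
      exact ⟨⟨z, hz.1.2⟩, hfix (mem_img hz.1.2
        ⟨factor_fixed_le P ha ⟨hz.1.1.1, hz.2⟩, hz.1.2⟩), rfl⟩
  rintro _ ⟨x, hx, rfl⟩
  obtain ⟨y, hy, hyx⟩ := h hx
  exact (Subtype.ext hyx : y = x) ▸ hy

theorem inf_le_core (P : Pair A₁ A₂) (h4 : Nat.card A₂ = 4) {a b : G} (ha : a ∈ A₁ ⊔ A₂)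
    (hb : b ∈ A₁ ⊔ A₂) (hb1 : b ≠ 1) :
    theta A₁ A₂ a ⊓ centralizer ({b} : Set G) ≤ Cfsg.centralizerPPrimeCore 2 b := by
  have hAa : A₁ ⊔ A₂ ≤ centralizer ({a} : Set G) := P.centralizer_le ha
  have hCRa : centralizer ((zpowers a : Subgroup G) : Set G) = centralizer ({a} : Set G) := by
    rw [zpowers_eq_closure, centralizer_closure]
  have hRp : IsPGroup 2 (zpowers a) := by
    refine IsPGroup.to_le ?_ (zpowers_le.mpr ha)
    exact P.isPGroup_one.to_sup_of_normal_left' (Signalizer.isPGroup_of_elementary P.h2)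
      (fun v hv => centralizer_le_normalizer _
        (mem_centralizer_iff.mpr fun u hu => P.comm u hu v hv))
  have hRC := zpowers_le.mpr (P.centralizer_le hb ha)
  have hOodd : (Nat.card (Cfsg.centralizerPPrimeCore 2 a)).Coprime 2 :=
    (Nat.prime_two.coprime_iff_not_dvd.mpr (Signalizer.not_dvd_centralizerPPrimeCore a)).symm
  refine mem_core_of_img_eq_bot inf_le_right (eq_bot_of_centralizes
    pPrimeCore_quotient_eq_bot (img_isPGroup hRp)
    (img_coprime (Q := Cfsg.centralizerPPrimeCore 2 a ⊓ centralizer ({b} : Set G)) inf_le_right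
      (hOodd.coprime_dvd_left (card_dvd_of_le inf_le_left)))
    (img_le_centralizer (R := zpowers a)
      (hCRa ▸ inf_le_left.trans (Signalizer.centralizerPPrimeCore_le a)))
    (centralizer_img_le_normalizer hRp hRC (fun g hg => inf_normalizer_le_normalizer_inf
      ⟨Signalizer.centralizer_le_normalizer_core a (hCRa ▸ hg.1), Subgroup.le_normalizer hg.2⟩))
    (img_mono (inf_le_inf_right _ (inf_le_left.trans (factor_le_core (le_sup_left.trans hAa)))))
    fun L hL => ?_)
  rcases P.sep b hb hb1 L hL with h | h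
  · exact img_centralizes P h4 ha hb hL h
  · rw [show theta A₁ A₂ a = theta A₂ A₁ a from inf_comm _ _]
    exact img_centralizes (P.swap h4) P.c1 (sup_comm A₁ A₂ ▸ ha) (sup_comm A₁ A₂ ▸ hb) hL h

theorem inf_le_factor (P : Pair A₁ A₂) (h4 : Nat.card A₂ = 4) {a b : G} (ha : a ∈ A₁ ⊔ A₂)
    (hb : b ∈ A₁ ⊔ A₂) (hb1 : b ≠ 1) :
    theta A₁ A₂ a ⊓ centralizer ({b} : Set G) ≤ factor A₁ b := by
  have hDO := inf_le_core P h4 ha hb hb1
  have hodd : (Nat.card ↥(theta A₁ A₂ a ⊓ centralizer ({b} : Set G))).Coprime 2 :=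
    ((Nat.prime_two.coprime_iff_not_dvd.mpr
      (Signalizer.not_dvd_centralizerPPrimeCore b)).symm).coprime_dvd_left (card_dvd_of_le hDO)
  conv_lhs => rw [← commutator_sup_fixed P.h1
    (sup_le_normalizer_theta_inf P h4 ha hb le_sup_left) hodd]
  exact sup_le ((commutator_mono hDO le_rfl).trans le_sup_left) fun x hx =>
    mem_sup_right ⟨hDO hx.1, factor_fixed_le P ha ⟨hx.1.1.1, hx.2⟩⟩

theorem isSignalizerFunctor (P : Pair A₁ A₂) (h4 : Nat.card A₂ = 4) :
    Cfsg.IsSignalizerFunctor 2 (A₁ ⊔ A₂) (theta A₁ A₂) := by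
  have hle : ∀ a ∈ A₁ ⊔ A₂, theta A₁ A₂ a ≤ Cfsg.centralizerPPrimeCore 2 a := fun a ha =>
    inf_le_left.trans (factor_le_core (le_sup_left.trans (P.centralizer_le ha)))
  refine ⟨fun a ha _ => (hle a ha).trans (Signalizer.centralizerPPrimeCore_le a), ?_, ?_, ?_⟩
  · exact fun a ha _ => Signalizer.not_dvd_of_le (hle a ha)
      (Signalizer.not_dvd_centralizerPPrimeCore a)
  · exact fun a ha _ b hb x hx => ⟨conj_mem_factor P ha hb hx.1,
      conj_mem_factor (P.swap h4) (sup_comm A₁ A₂ ▸ ha) (sup_comm A₁ A₂ ▸ hb) hx.2⟩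
  · intro a ha _ b hb hb1
    refine le_inf (inf_le_factor P h4 ha hb hb1) ?_
    rw [show theta A₁ A₂ a = theta A₂ A₁ a from inf_comm _ _]
    exact inf_le_factor (P.swap h4) P.c1 (sup_comm A₁ A₂ ▸ ha) (sup_comm A₁ A₂ ▸ hb) hb1

/-- A core-separated pair gives the data used above. -/
theorem Pair.of_coreSeparated (h : Cfsg.IsCoreSeparated A₁ A₂) : Pair A₁ A₂ := by
  obtain ⟨e1, e2, c1, -, -, -, hcomm, hsep⟩ := h
  refine ⟨e1, e2, c1, hcomm, fun c hc hc1 J hJ => ?_⟩
  obtain ⟨E, hE, rfl⟩ := exists_isPComponent_map_eq hJ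
  have key : ∀ A : Subgroup G,
      ⁅E.map (centralizer ({c} : Set G)).subtype, A⁆ ≤ Cfsg.centralizerPPrimeCore 2 c →
      img (centralizer ({c} : Set G)) A ≤
        centralizer ((E.map (qmap (centralizer ({c} : Set G)))) :
          Set (Bar (centralizer ({c} : Set G)))) := by
    intro A h
    rintro _ ⟨x, hx, rfl⟩
    refine mem_centralizer_iff.mpr ?_
    rintro _ ⟨y, hy, rfl⟩
    rw [← commutatorElement_eq_one_iff_mul_comm, ← map_commutatorElement]
    refine (QuotientGroup.eq_one_iff _).mpr ?_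
    obtain ⟨w, hw, hwe⟩ := h (commutator_mem_commutator (mem_map_of_mem _ hy) hx)
    have e : w = ⁅y, x⁆ := Subtype.ext (by rw [← map_commutatorElement] at hwe; exact hwe)
    rw [← e]
    exact hw
  exact (hsep c hc hc1 E hE).imp (key A₁) (key A₂)

end CfsgLib.Components.CoreSeparated
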