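import Cfsg.Agent.Lib.Components.CoreSeparated.Basic
import Cfsg.Agent.S1329

/-!
The signalizer functor of a core-separated pair of four-groups.
-/

set_option autoImplicit false
set_option linter.style.haveILetI false
set_option linter.unusedSectionVars false

namespace CfsgLib.Components.CoreSeparated

open Subgroup CfsgLib.Solvable
open CfsgLib.Components.ExtendedLayer (part part_le_centralizer normalizer_le_normalizer_part)
open scoped commutatorElement

variable {G : Type*} [Group G] [Finite G] [Fact (Nat.Prime 2)]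

/-- `C / O(C)`. -/
abbrev Bar (C : Subgroup G) := ↥C ⧸ Cfsg.pPrimeCore 2 ↥C

theorem le_centralizer_singleton_iff {S : Subgroup G} {c : G} :
    S ≤ centralizer ({c} : Set G) ↔ ∀ s ∈ S, s * c = c * s :=
  ⟨fun h s hs => mem_centralizer_singleton_iff.mp (h hs),
    fun h s hs => mem_centralizer_singleton_iff.mpr (h s hs)⟩

theorem conj_le_sSup_centralised {H : Type*} [Group H] [Finite H] {R : Subgroup H} {g : H}
    (hg : g ∈ centralizer (R : Set H)) :
    g ∈ normalizer ((sSup {J : Subgroup H | Cfsg.IsComponent J ∧ J ≤ centralizer (R : Set H)} :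
      Subgroup H) : Set H) := by
  refine Coprime.mem_normalizer_of_conj_map_le fun x hx => ?_
  have h : (sSup {J : Subgroup H | Cfsg.IsComponent J ∧ J ≤ centralizer (R : Set H)}).map
      (MulAut.conj g).toMonoidHom ≤
      sSup {J : Subgroup H | Cfsg.IsComponent J ∧ J ≤ centralizer (R : Set H)} := by
    rw [map_le_iff_le_comap]
    refine sSup_le fun J hJ => map_le_iff_le_comap.mp (le_sSup ⟨IsComponent.conj hJ.1 g, ?_⟩)
    rintro _ ⟨y, hy, rfl⟩
    exact mul_mem (mul_mem hg (hJ.2 hy)) (inv_mem hg)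
  exact h ⟨x, hx, rfl⟩

/-- An odd subgroup of `C(c)` lands in `O(C(A₁))` when it lies in the core of `C(c)`. -/
theorem core_inf_le_part {A₁ : Subgroup G} {c : G} (hc : c ∈ A₁) :
    Cfsg.centralizerPPrimeCore 2 c ⊓ centralizer (A₁ : Set G) ≤ part 2 A₁ := by
  refine CoreBalance.le_part ?_ inf_le_right ?_
  · exact ((Nat.prime_two.coprime_iff_not_dvd.mpr
      (Signalizer.not_dvd_centralizerPPrimeCore c)).symm).coprime_dvd_left
      (card_dvd_of_le inf_le_left)
  · intro g hg
    refine inf_normalizer_le_normalizer_inf ⟨?_, Subgroup.le_normalizer hg⟩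
    exact Signalizer.centralizer_le_normalizer_core c
      (centralizer_le (Set.singleton_subset_iff.mpr hc) hg)

theorem layer_centralised {A₁ A₂ : Subgroup G} {c : G}
    (hsep : ∀ J : Subgroup (↥(centralizer ({c} : Set G)) ⧸
        Cfsg.pPrimeCore 2 ↥(centralizer ({c} : Set G))), Cfsg.IsComponent J →
      img (centralizer ({c} : Set G)) A₁ ≤ centralizer (J : Set _) ∨
      img (centralizer ({c} : Set G)) A₂ ≤ centralizer (J : Set _))
    {s : ↥(centralizer ({c} : Set G)) ⧸ Cfsg.pPrimeCore 2 ↥(centralizer ({c} : Set G))}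
    (hs : s ∈ Cfsg.layer _)
    (hs1 : s ∈ centralizer (img (centralizer ({c} : Set G)) A₁ : Set _)) {a1 a2 : _}
    (ha1 : a1 ∈ img (centralizer ({c} : Set G)) A₁) (ha2 : a2 ∈ img (centralizer ({c} : Set G)) A₂)
    (h12 : a2 * a1 = a1 * a2)
    (h12' : a2 ∈ centralizer (img (centralizer ({c} : Set G)) A₁ : Set _))
    (h11 : a1 ∈ centralizer (img (centralizer ({c} : Set G)) A₁ : Set _)) :
    ⁅a1 * a2, s⁆ ∈ sSup {J : Subgroup _ | Cfsg.IsComponent J ∧
      J ≤ centralizer (img (centralizer ({c} : Set G)) A₁ : Set _)} := by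
  set I1 := img (centralizer ({c} : Set G)) A₁ with hI1
  set I2 := img (centralizer ({c} : Set G)) A₂ with hI2
  set P1 := sSup {J : Subgroup (Bar (centralizer ({c} : Set G))) | Cfsg.IsComponent J ∧ J ≤ centralizer (I1 : Set (Bar (centralizer ({c} : Set G))))} with hP1
  set P2 := Cfsg.layer (↥(centralizer ({c} : Set G)) ⧸
    Cfsg.pPrimeCore 2 ↥(centralizer ({c} : Set G))) ⊓ centralizer (I2 : Set (Bar (centralizer ({c} : Set G)))) with hP2
  have hle : Cfsg.layer _ ≤ P1 ⊔ P2 := layer_le_iff.mpr fun J hJ => by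
    rcases hsep J hJ with h | h
    · exact le_trans (le_sSup (show J ∈ {J : Subgroup (Bar (centralizer ({c} : Set G))) |
        Cfsg.IsComponent J ∧ J ≤ centralizer (I1 : Set (Bar (centralizer ({c} : Set G))))} from
        ⟨hJ, le_centralizer_iff.mp h⟩)) le_sup_left
    · exact le_trans (le_inf (IsComponent.le_layer hJ) (le_centralizer_iff.mp h)) le_sup_right
  have hn : P2 ≤ normalizer (P1 : Set (Bar (centralizer ({c} : Set G)))) := by
    intro g hg
    refine Coprime.mem_normalizer_of_conj_map_le fun x hx => ?_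
    have h : P1.map (MulAut.conj g).toMonoidHom ≤ P1 := by
      rw [map_le_iff_le_comap]
      refine sSup_le fun J hJ => map_le_iff_le_comap.mp ?_
      rw [mem_normalizer_iff_map_conj_eq.mp (layer_le_normalizer hJ.1 hg.1)]
      exact le_sSup hJ
    exact h ⟨x, hx, rfl⟩
  obtain ⟨u, hu, v, hv, rfl⟩ := GlaubermanSylow.mem_of_mem_sup_of_normalizes hn (hle hs)
  have hu1 : u ∈ centralizer (I1 : Set (Bar (centralizer ({c} : Set G)))) := (show P1 ≤ _ from sSup_le fun J hJ => hJ.2) hu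
  have hv1 : v ∈ centralizer (I1 : Set (Bar (centralizer ({c} : Set G)))) := by
    have := mul_mem (inv_mem hu1) hs1
    rwa [inv_mul_cancel_left] at this
  have hc1 : a1 * v = v * a1 := mem_centralizer_iff.mp hv1 a1 ha1
  have hc2 : a2 * v = v * a2 := mem_centralizer_iff.mp hv.2 a2 ha2
  have hcv : Commute (a1 * a2) v := (show Commute a1 v from hc1).mul_left hc2
  have e : ⁅a1 * a2, u * v⁆ = (a1 * a2) * u * (a1 * a2)⁻¹ * u⁻¹ := by
    rw [commutatorElement_def]
    calc a1 * a2 * (u * v) * (a1 * a2)⁻¹ * (u * v)⁻¹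
        = a1 * a2 * u * (v * (a1 * a2)⁻¹) * v⁻¹ * u⁻¹ := by group
      _ = a1 * a2 * u * ((a1 * a2)⁻¹ * v) * v⁻¹ * u⁻¹ := by rw [hcv.symm.inv_right.eq]
      _ = _ := by group
  rw [e]
  exact mul_mem ((mem_normalizer_iff.mp (conj_le_sSup_centralised (mul_mem h11 h12')) u).mp hu)
    (inv_mem hu)

/-- The 2-layer of `C(R)` lies in the 2-layer of `H` for `R ≤ H`. -/
theorem pLayer_centralizer_le {H R : Subgroup G} (hR : IsPGroup 2 R) (hRH : R ≤ H)
    (hCH : centralizer (R : Set G) ≤ H) :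
    (Cfsg.pLayer 2 ↥(centralizer (R : Set G))).map (inclusion hCH) ≤ Cfsg.pLayer 2 ↥H := by
  have e : centralizer ((R.subgroupOf H : Subgroup H) : Set H) =
      (centralizer (R : Set G)).subgroupOf H := by
    ext x
    constructor
    · intro hx
      exact mem_centralizer_iff.mpr fun r hr =>
        congrArg Subtype.val (mem_centralizer_iff.mp hx ⟨r, hRH hr⟩ hr)
    · intro hx
      exact mem_centralizer_iff.mpr fun r hr => Subtype.ext (mem_centralizer_iff.mp hx r hr)
  set C' := centralizer ((R.subgroupOf H : Subgroup H) : Set H) with hC'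
  let ι : ↥(centralizer (R : Set G)) →* C' :=
    (inclusion hCH).codRestrict C' fun x => by rw [e]; exact x.2
  have hι : Function.Surjective ι := by
    rintro ⟨x, hx⟩
    rw [e] at hx
    exact ⟨⟨x, hx⟩, rfl⟩
  have hbal : (Cfsg.pLayer 2 C').map C'.subtype ≤ Cfsg.pLayer 2 ↥H :=
    (LBalance.centralizerLayer_le_localLayer _).trans
      (LBalance.localLayer_le_pLayer (hR.comap_of_injective H.subtype H.subtype_injective)
        fun L hL => LBalance.localLayer_le_inner_two pPrimeCore_quotient_eq_bot hL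
          ((hR.comap_of_injective H.subtype H.subtype_injective).map _))
  rw [map_le_iff_le_comap]
  refine sSup_le fun K hK k hk => ?_
  have h1 : (ι.comp K.subtype).range ≤ Cfsg.pLayer 2 C' := by
    refine LBalance.range_le_pLayer hK _ ?_
    rw [MonoidHom.range_comp, Subgroup.range_subtype]
    exact hK.1.map hι
  exact hbal ⟨ι k, h1 ⟨⟨k, hk⟩, rfl⟩, rfl⟩

variable {A₁ A₂ : Subgroup G}

/-- The hypotheses on the pair of four-groups in the form used below. -/
structure Pair (A₁ A₂ : Subgroup G) : Prop where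
  h1 : Cfsg.IsElementaryAbelian 2 A₁
  h2 : Cfsg.IsElementaryAbelian 2 A₂
  c1 : Nat.card A₁ = 4
  comm : ∀ x ∈ A₁, ∀ y ∈ A₂, x * y = y * x
  sep : ∀ c ∈ A₁ ⊔ A₂, c ≠ 1 → ∀ J : Subgroup (↥(centralizer ({c} : Set G)) ⧸
      Cfsg.pPrimeCore 2 ↥(centralizer ({c} : Set G))), Cfsg.IsComponent J →
    img (centralizer ({c} : Set G)) A₁ ≤ centralizer (J : Set _) ∨
    img (centralizer ({c} : Set G)) A₂ ≤ centralizer (J : Set _)

theorem Pair.comm_sup (P : Pair A₁ A₂) {x y : G} (hx : x ∈ A₁ ⊔ A₂) (hy : y ∈ A₁ ⊔ A₂) :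
    x * y = y * x := by
  have e1 : A₁ ≤ centralizer (A₁ : Set G) := le_centralizer_iff_isMulCommutative.mpr P.h1.1
  have e2 : A₂ ≤ centralizer (A₂ : Set G) := le_centralizer_iff_isMulCommutative.mpr P.h2.1
  have e12 : A₁ ≤ centralizer (A₂ : Set G) := fun u hu =>
    mem_centralizer_iff.mpr fun v hv => (P.comm u hu v hv).symm
  have h : A₁ ⊔ A₂ ≤ centralizer ((A₁ ⊔ A₂ : Subgroup G) : Set G) := by
    refine sup_le ?_ ?_ <;> rw [le_centralizer_iff] <;> refine sup_le ?_ ?_
    · exact e1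
    · exact le_centralizer_iff.mp e12
    · exact e12
    · exact e2
  exact (mem_centralizer_iff.mp (h hy) x hx)

theorem Pair.centralizer_le (P : Pair A₁ A₂) {c : G} (hc : c ∈ A₁ ⊔ A₂) :
    A₁ ⊔ A₂ ≤ centralizer ({c} : Set G) := fun _ hx =>
  mem_centralizer_singleton_iff.mpr (P.comm_sup hx hc)

theorem Pair.isPGroup_one (P : Pair A₁ A₂) : IsPGroup 2 A₁ :=
  Signalizer.isPGroup_of_elementary P.h1

/-- The central lemma: a piece of the fixed points acts trivially on the components of `C(A₁)`. -/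
theorem piece_centralizes (P : Pair A₁ A₂) {a : G} (ha : a ∈ A₁ ⊔ A₂)
    {c : G} (hc : c ∈ A₁) (hc1 : c ≠ 1) {z : G} (hzA : z ∈ centralizer (A₁ : Set G))
    (hz : z ∈ ⁅Cfsg.centralizerPPrimeCore 2 a ⊓ centralizer ({c} : Set G), A₁⁆)
    {L : Subgroup (↥(centralizer (A₁ : Set G)) ⧸ Cfsg.pPrimeCore 2 ↥(centralizer (A₁ : Set G)))}
    (hL : Cfsg.IsComponent L) :
    qmap (centralizer (A₁ : Set G)) ⟨z, hzA⟩ ∈ centralizer (L : Set _) := by
  have hA1A : A₁ ≤ A₁ ⊔ A₂ := le_sup_left
  have hA2A : A₂ ≤ A₁ ⊔ A₂ := le_sup_right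
  have hcA := hA1A hc
  have hAC : A₁ ⊔ A₂ ≤ (centralizer ({c} : Set G)) := P.centralizer_le hcA
  have hXC : (centralizer (A₁ : Set G)) ≤ (centralizer ({c} : Set G)) := Subgroup.centralizer_le (Set.singleton_subset_iff.mpr hc)
  have hOodd : (Nat.card (Cfsg.centralizerPPrimeCore 2 a)).Coprime 2 :=
    (Nat.prime_two.coprime_iff_not_dvd.mpr (Signalizer.not_dvd_centralizerPPrimeCore a)).symm
  have haA1 : a ∈ (centralizer (A₁ : Set G)) := mem_centralizer_iff.mpr fun x hx => P.comm_sup (hA1A hx) ha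
  have ha2 : a ^ 2 = 1 := by
    obtain ⟨u, hu, v, hv, rfl⟩ := GlaubermanSylow.mem_of_mem_sup_of_normalizes
      (A := A₁) (B := A₂) (fun v hv => centralizer_le_normalizer _
        (mem_centralizer_iff.mpr fun u hu => P.comm u hu v hv)) ha
    rw [(show Commute u v from P.comm u hu v hv).mul_pow, P.h1.2 u hu, P.h2.2 v hv, one_mul]
  set Ra := zpowers a with hRa
  have hRp : IsPGroup 2 Ra := fun g => ⟨1, by
    obtain ⟨n, hn⟩ := mem_zpowers_iff.mp g.2
    refine Subtype.ext ?_
    rw [Subgroup.coe_pow, ← hn, pow_one, ← zpow_natCast, ← zpow_mul, mul_comm, zpow_mul,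
      zpow_natCast, ha2, _root_.one_zpow, Subgroup.coe_one]⟩
  have hRC : Ra ≤ (centralizer ({c} : Set G)) := zpowers_le.mpr (hAC ha)
  have hCRa : centralizer (Ra : Set G) = centralizer ({a} : Set G) := by
    rw [hRa, zpowers_eq_closure, centralizer_closure]
  set Q := (Cfsg.centralizerPPrimeCore 2 a) ⊓ (centralizer ({c} : Set G)) with hQ
  have hQR : Q ≤ centralizer (Ra : Set G) :=
    hCRa ▸ inf_le_left.trans (Signalizer.centralizerPPrimeCore_le a)
  have hQn : centralizer (Ra : Set G) ⊓ (centralizer ({c} : Set G)) ≤ normalizer (Q : Set G) := fun g hg =>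
    inf_normalizer_le_normalizer_inf
      ⟨Signalizer.centralizer_le_normalizer_core a (hCRa ▸ hg.1), Subgroup.le_normalizer hg.2⟩
  have hQodd : (Nat.card Q).Coprime 2 := hOodd.coprime_dvd_left (card_dvd_of_le inf_le_left)
  have hzC : z ∈ (centralizer ({c} : Set G)) := hXC hzA
  -- `z` centralises the components of `(centralizer ({c} : Set G)) / O((centralizer ({c} : Set G)))` centralised by `A₁`
  have hzJ : qmap (centralizer ({c} : Set G)) ⟨z, hzC⟩ ∈ centralizer ((sSup {J : Subgroup (Bar (centralizer ({c} : Set G))) | Cfsg.IsComponent J ∧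
      J ≤ centralizer (img (centralizer ({c} : Set G)) A₁ : Set (Bar (centralizer ({c} : Set G))))} : Subgroup (Bar (centralizer ({c} : Set G)))) : Set (Bar (centralizer ({c} : Set G)))) := by
    suffices h : sSup {J : Subgroup (Bar (centralizer ({c} : Set G))) | Cfsg.IsComponent J ∧
        J ≤ centralizer (img (centralizer ({c} : Set G)) A₁ : Set _)} ≤ centralizer {qmap (centralizer ({c} : Set G)) ⟨z, hzC⟩} from
      mem_centralizer_iff.mpr fun y hy => mem_centralizer_singleton_iff.mp (h hy)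
    refine sSup_le fun J hJ y hy => ?_
    have h1 := commutator_le_centralizer (img_data hRp hRC inf_le_right hQodd hQR hQn hJ.1)
      (le_centralizer_iff.mp hJ.2)
    have h2 := h1 (img_commutator_le inf_le_right (hA1A.trans hAC) (mem_img hzC hz))
    exact mem_centralizer_singleton_iff.mpr (mem_centralizer_iff.mp h2 y hy)
  -- `z` commutes modulo `O(X)` with `[a, s]` for `s` in the 2-layer of `(centralizer (A₁ : Set G))`
  have key : ∀ s : (centralizer (A₁ : Set G)), s ∈ Cfsg.pLayer 2 (centralizer (A₁ : Set G)) →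
      qmap (centralizer (A₁ : Set G)) ⟨z, hzA⟩ * qmap (centralizer (A₁ : Set G)) ⁅(⟨a, haA1⟩ : (centralizer (A₁ : Set G))), s⁆ = qmap (centralizer (A₁ : Set G)) ⁅(⟨a, haA1⟩ : (centralizer (A₁ : Set G))), s⁆ * qmap (centralizer (A₁ : Set G)) ⟨z, hzA⟩ := by
    intro s hs
    obtain ⟨u, hu, v, hv, huv⟩ := GlaubermanSylow.mem_of_mem_sup_of_normalizes
      (A := A₁) (B := A₂) (fun v hv => centralizer_le_normalizer _
        (mem_centralizer_iff.mpr fun u hu => P.comm u hu v hv)) ha
    have hsC : (s : G) ∈ (centralizer ({c} : Set G)) := hXC s.2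
    have hlay : qmap (centralizer ({c} : Set G)) ⟨s, hsC⟩ ∈ Cfsg.layer _ := by
      rw [← pLayer_map_eq]
      exact mem_map_of_mem _ (pLayer_centralizer_le P.isPGroup_one (hA1A.trans hAC) hXC ⟨s, hs, rfl⟩)
    have hsc : ∀ {w : G} (hw : w ∈ (centralizer ({c} : Set G))), w ∈ (centralizer (A₁ : Set G)) → qmap (centralizer ({c} : Set G)) ⟨w, hw⟩ ∈ centralizer (img (centralizer ({c} : Set G)) A₁ : Set _) :=
      fun hw hwX => img_le_centralizer le_rfl (mem_img hw hwX)
    have huX : u ∈ (centralizer (A₁ : Set G)) := mem_centralizer_iff.mpr fun x hx => P.comm_sup (hA1A hx) (hA1A hu)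
    have hvX : v ∈ (centralizer (A₁ : Set G)) := mem_centralizer_iff.mpr fun x hx => P.comm_sup (hA1A hx) (hA2A hv)
    have h3 := layer_centralised (P.sep c hcA hc1) hlay (hsc hsC s.2)
      (mem_img (hAC (hA1A hu)) hu) (mem_img (hAC (hA2A hv)) hv)
      (by rw [← map_mul, ← map_mul]; exact congrArg _ (Subtype.ext (P.comm u hu v hv).symm))
      (hsc _ hvX) (hsc _ huX)
    have h4 := mem_centralizer_iff.mp hzJ _ h3
    rw [← map_mul (qmap (centralizer ({c} : Set G))) ⟨u, hAC (hA1A hu)⟩ ⟨v, hAC (hA2A hv)⟩, ← map_commutatorElement] at h4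
    set t : (centralizer ({c} : Set G)) := ⁅(⟨u, hAC (hA1A hu)⟩ : (centralizer ({c} : Set G))) * ⟨v, hAC (hA2A hv)⟩, ⟨(s : G), hsC⟩⁆ with ht
    have htv : (t : G) = ⁅a, (s : G)⁆ := by
      rw [ht, ← huv]; simp [commutatorElement_def]
    set t' : (centralizer (A₁ : Set G)) := ⁅(⟨a, haA1⟩ : (centralizer (A₁ : Set G))), s⁆ with ht'
    have htv' : (t' : G) = ⁅a, (s : G)⁆ := by rw [ht']; simp [commutatorElement_def]
    rw [← map_mul, ← map_mul] at h4 ⊢
    rw [QuotientGroup.mk'_apply, QuotientGroup.mk'_apply, QuotientGroup.eq] at h4 ⊢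
    set w : (centralizer (A₁ : Set G)) := (⟨z, hzA⟩ * t')⁻¹ * (t' * ⟨z, hzA⟩) with hw
    have h5 : (w : G) ∈ part 2 A₁ := by
      refine core_inf_le_part hc ⟨?_, w.2⟩
      refine ⟨((t * ⟨z, hzC⟩)⁻¹ * (⟨z, hzC⟩ * t))⁻¹, inv_mem h4, ?_⟩
      simp [hw, htv, htv']
    obtain ⟨y, hy, hyw⟩ := h5
    have e : y = w := Subtype.ext hyw
    rw [e] at hy
    exact hy
  set q := qmap (centralizer (A₁ : Set G)) with hq
  set E := Cfsg.layer (↥(centralizer (A₁ : Set G)) ⧸ Cfsg.pPrimeCore 2 ↥(centralizer (A₁ : Set G))) with hE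
  set T := ⁅zpowers (q ⟨a, haA1⟩), E⁆ with hT
  have hzT : T ≤ centralizer ({q ⟨z, hzA⟩} : Set _) := by
    rw [hT, Subgroup.commutator_le]
    intro r hr σ hσ
    rw [hE, ← pLayer_map_eq] at hσ
    obtain ⟨s, hs, rfl⟩ := hσ
    have hr2 : r = 1 ∨ r = q ⟨a, haA1⟩ := by
      obtain ⟨n, rfl⟩ := mem_zpowers_iff.mp hr
      have hsq : (q ⟨a, haA1⟩) ^ (2 : ℤ) = 1 := by
        rw [← map_zpow, show (⟨a, haA1⟩ : (centralizer (A₁ : Set G))) ^ (2 : ℤ) = 1 from Subtype.ext (by
          simpa [zpow_ofNat] using ha2), map_one]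
      obtain ⟨k, rfl | rfl⟩ := n.even_or_odd'
      · left; rw [zpow_mul, hsq, _root_.one_zpow]
      · right; rw [zpow_add, zpow_mul, hsq, _root_.one_zpow, one_mul, zpow_one]
    rcases hr2 with rfl | rfl
    · rw [commutatorElement_one_left]; exact one_mem _
    · rw [← map_commutatorElement]
      exact mem_centralizer_singleton_iff.mpr (key s hs).symm
  have hLn : L ≤ normalizer (T : Set _) :=
    (IsComponent.le_layer hL).trans (normalizer_commutator_ge_right _ _)
  rcases IsComponent.le_or_commutator_eq_bot_of_le_normalizer hL hLn with h | h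
  · exact mem_centralizer_iff.mpr fun l hl => mem_centralizer_singleton_iff.mp (hzT (h hl))
  have hLa : L ≤ centralizer (zpowers (q ⟨a, haA1⟩) : Set _) := by
    rw [← commutator_eq_bot_iff_le_centralizer, commutator_comm]
    refine commutator_eq_bot_of_perfect hL.2.1 ?_
    rw [eq_bot_iff, ← h, commutator_comm L T]
    exact commutator_mono (commutator_mono le_rfl (IsComponent.le_layer hL)) le_rfl
  have hRX : Ra ≤ (centralizer (A₁ : Set G)) := zpowers_le.mpr haA1
  have hLa' : L ≤ centralizer (img (centralizer (A₁ : Set G)) Ra : Set _) := by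
    refine hLa.trans (Subgroup.centralizer_le ?_)
    rintro _ ⟨⟨r, hrX⟩, hr, rfl⟩
    obtain ⟨n, rfl⟩ := mem_zpowers_iff.mp hr
    refine ⟨n, ?_⟩
    show (q ⟨a, haA1⟩) ^ n = q ⟨a ^ n, hrX⟩
    rw [← map_zpow]
    exact congrArg _ (Subtype.ext (by simp))
  have hQ' := centralizes_of_le_centralizer pPrimeCore_quotient_eq_bot
    (img_coprime (Q := (Cfsg.centralizerPPrimeCore 2 a) ⊓ (centralizer (A₁ : Set G))) inf_le_right (hOodd.coprime_dvd_left (card_dvd_of_le inf_le_left)))
    (centralizer_img_le_normalizer hRp hRX (fun g hg => inf_normalizer_le_normalizer_inf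
      ⟨Signalizer.centralizer_le_normalizer_core a (hCRa ▸ hg.1), Subgroup.le_normalizer hg.2⟩))
    hL hLa'
  refine hQ' (mem_img hzA ⟨?_, hzA⟩)
  have : ⁅Cfsg.centralizerPPrimeCore 2 a ⊓ centralizer ({c} : Set G), A₁⁆ ≤ (Cfsg.centralizerPPrimeCore 2 a) := by
    refine (commutator_mono inf_le_left le_rfl).trans (commutator_le_left_of_le_normalizer ?_)
    exact fun x hx => Signalizer.centralizer_le_normalizer_core a (P.centralizer_le ha (hA1A hx))
  exact this hz

theorem Pair.cocyclic_ne_bot (P : Pair A₁ A₂) {B₀ : Subgroup G}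
    (hB : ∀ [(B₀.subgroupOf A₁).Normal], IsCyclic (↥A₁ ⧸ B₀.subgroupOf A₁)) : B₀ ≠ ⊥ := by
  intro h
  subst h
  haveI hn : ((⊥ : Subgroup G).subgroupOf A₁).Normal := by rw [bot_subgroupOf]; infer_instance
  obtain ⟨g, hg⟩ := (@hB hn).exists_generator
  obtain ⟨g, rfl⟩ := QuotientGroup.mk_surjective g
  have h4 : Nat.card (↥A₁ ⧸ (⊥ : Subgroup G).subgroupOf A₁) = 4 := by
    rw [← index_eq_card, bot_subgroupOf, index_bot, P.c1]
  have h5 : orderOf (g : ↥A₁ ⧸ (⊥ : Subgroup G).subgroupOf A₁) = 4 := by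
    rw [orderOf_eq_card_of_forall_mem_zpowers hg, h4]
  have h6 : (g : ↥A₁ ⧸ (⊥ : Subgroup G).subgroupOf A₁) ^ 2 = 1 := by
    rw [← QuotientGroup.mk_pow, show g ^ 2 = 1 from Subtype.ext (by simpa using P.h1.2 g g.2),
      QuotientGroup.mk_one]
  have := Nat.le_of_dvd two_pos (orderOf_dvd_of_pow_eq_one h6)
  omega

/-- `C_{[O(C(a)), A₁]}(A₁) ≤ O(C(A₁))`. -/
theorem fixed_commutator_le (P : Pair A₁ A₂) {a : G} (ha : a ∈ A₁ ⊔ A₂) :
    ⁅Cfsg.centralizerPPrimeCore 2 a, A₁⁆ ⊓ centralizer (A₁ : Set G) ≤ part 2 A₁ := by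
  set O := Cfsg.centralizerPPrimeCore 2 a with hO
  set M := ⁅O, A₁⁆ with hM
  set X := centralizer (A₁ : Set G) with hX
  have hAN : A₁ ≤ normalizer (O : Set G) := fun x hx =>
    Signalizer.centralizer_le_normalizer_core a (P.centralizer_le ha (mem_sup_left hx))
  have hMO : M ≤ O := commutator_le_left_of_le_normalizer hAN
  have hOodd : (Nat.card O).Coprime 2 :=
    (Nat.prime_two.coprime_iff_not_dvd.mpr (Signalizer.not_dvd_centralizerPPrimeCore a)).symm
  have hMM : ⁅M, A₁⁆ = M := by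
    refine Coprime.commutator_commutator_self hAN ?_
      (Or.inl (Group.isSolvable_of_comm fun x y => P.h1.1.1.1 x y))
    rw [P.c1, show (4 : ℕ) = 2 ^ 2 from rfl]
    exact (hOodd.pow_right 2).symm
  have hgen := Cfsg.Agent.S1329.result A₁ A₁ M P.isPGroup_one P.h1.1 le_rfl
    (Nat.coprime_two_right.mp (hOodd.coprime_dvd_left (card_dvd_of_le hMO)))
    (normalizer_commutator_ge_right _ _) hMM
  have hcent : ∀ L : Subgroup (Bar X), Cfsg.IsComponent L → img X (M ⊓ X) ≤
      centralizer (L : Set (↥X ⧸ Cfsg.pPrimeCore 2 ↥X)) := by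
    intro L hL
    have h : M ⊓ X ≤ ((centralizer (L : Set (Bar X))).comap (qmap X)).map X.subtype := by
      refine hgen.le.trans (iSup_le fun B₀ z hz => ?_)
      obtain ⟨c, hc, hc1⟩ := (Subgroup.ne_bot_iff_exists_ne_one.mp
        (P.cocyclic_ne_bot B₀.2.2)) |> fun ⟨c, h⟩ => (⟨c.1, c.2, fun e => h (Subtype.ext e)⟩ :
          ∃ c, c ∈ (B₀ : Subgroup G) ∧ c ≠ 1)
      refine ⟨⟨z, hz.1.2⟩, piece_centralizes P ha (B₀.2.1 hc) hc1 hz.1.2 ?_ hL, rfl⟩
      exact commutator_mono (inf_le_inf hMO (Subgroup.centralizer_le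
        (Set.singleton_subset_iff.mpr hc))) le_rfl hz.2
    rintro _ ⟨x, hx, rfl⟩
    obtain ⟨y, hy, hyx⟩ := h hx
    exact (Subtype.ext hyx : y = x) ▸ hy
  have haX : zpowers a ≤ X := zpowers_le.mpr
    (mem_centralizer_iff.mpr fun x hx => P.comm_sup (mem_sup_left hx) ha)
  have hCRa : centralizer ((zpowers a : Subgroup G) : Set G) = centralizer ({a} : Set G) := by
    rw [zpowers_eq_closure, centralizer_closure]
  have hA2 : IsPGroup 2 (zpowers a) := by
    refine IsPGroup.to_le ?_ (zpowers_le.mpr ha)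
    exact P.isPGroup_one.to_sup_of_normal_left' (Signalizer.isPGroup_of_elementary P.h2)
      (fun v hv => centralizer_le_normalizer _
        (mem_centralizer_iff.mpr fun u hu => P.comm u hu v hv))
  have h := eq_bot_of_centralizes (Y := img X (M ⊓ X)) pPrimeCore_quotient_eq_bot
    (img_isPGroup hA2)
    (img_coprime (Q := O ⊓ X) inf_le_right (hOodd.coprime_dvd_left (card_dvd_of_le inf_le_left)))
    (img_le_centralizer (R := zpowers a)
      (hCRa ▸ inf_le_left.trans (Signalizer.centralizerPPrimeCore_le a)))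
    (centralizer_img_le_normalizer hA2 haX (fun g hg => inf_normalizer_le_normalizer_inf
      ⟨Signalizer.centralizer_le_normalizer_core a (hCRa ▸ hg.1), Subgroup.le_normalizer hg.2⟩))
    (img_mono (inf_le_inf_right _ hMO)) hcent
  exact mem_core_of_img_eq_bot inf_le_right h

end CfsgLib.Components.CoreSeparated
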